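import Mathlib
import Groth.Prelude.Def_W4c6eohyperellchar2Gc

/-! Values of the operators on basis vectors, membership in the filtration. -/

set_option autoImplicit false

universe u

namespace Groth.DieuGc

open W4c6eohyperellchar2

variable {c : ℕ} {k : Type u}

theorem ext' [CommRing k] {v w : GcMod c k} (hx : ∀ n, 1 ≤ n → n ≤ c → coefX v n = coefX w n)
    (hy : ∀ n, 1 ≤ n → n ≤ c → coefY v n = coefY w n) : v = w := by
  refine Prod.ext (funext fun i => ?_) (funext fun i => ?_)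
  · simpa [coefX, Nat.succ_le_of_lt i.2] using hx (i.val + 1) (by omega) (by omega)
  · simpa [coefY, Nat.succ_le_of_lt i.2] using hy (i.val + 1) (by omega) (by omega)

variable [CommRing k]

theorem coefX_X {n m : ℕ} : coefX (X c k n) m = if n = m ∧ 1 ≤ m ∧ m ≤ c then 1 else 0 := by
  unfold coefX X
  split_ifs with h h' <;> grind
theorem coefY_Y {n m : ℕ} : coefY (Y c k n) m = if n = m ∧ 1 ≤ m ∧ m ≤ c then 1 else 0 := by
  unfold coefY Y
  split_ifs with h h' <;> grind
@[simp] theorem coefX_Y {n m : ℕ} : coefX (Y c k n) m = 0 := by simp [coefX, Y]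
@[simp] theorem coefY_X {n m : ℕ} : coefY (X c k n) m = 0 := by simp [coefY, X]
@[simp] theorem coefX_zero {m : ℕ} : coefX (0 : GcMod c k) m = 0 := by simp [coefX]
@[simp] theorem coefY_zero {m : ℕ} : coefY (0 : GcMod c k) m = 0 := by simp [coefY]
theorem coefX_add (v w : GcMod c k) (m : ℕ) : coefX (v + w) m = coefX v m + coefX w m := by
  unfold coefX; split <;> simp
theorem coefY_add (v w : GcMod c k) (m : ℕ) : coefY (v + w) m = coefY v m + coefY w m := by
  unfold coefY; split <;> simp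
theorem coefX_smul (a : k) (v : GcMod c k) (m : ℕ) : coefX (a • v) m = a * coefX v m := by
  unfold coefX; split <;> simp
theorem coefY_smul (a : k) (v : GcMod c k) (m : ℕ) : coefY (a • v) m = a * coefY v m := by
  unfold coefY; split <;> simp
theorem coefX_eq_zero {v : GcMod c k} {m : ℕ} (h : ¬ (1 ≤ m ∧ m ≤ c)) : coefX v m = 0 := dif_neg h
theorem coefY_eq_zero {v : GcMod c k} {m : ℕ} (h : ¬ (1 ≤ m ∧ m ≤ c)) : coefY v m = 0 := dif_neg h

theorem coefX_fin (v : GcMod c k) (j : Fin c) : coefX v (j.val + 1) = v.1 j := by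
  rw [coefX, dif_pos ⟨by omega, by omega⟩]; rfl

theorem coefY_fin (v : GcMod c k) (j : Fin c) : coefY v (j.val + 1) = v.2 j := by
  rw [coefY, dif_pos ⟨by omega, by omega⟩]; rfl

theorem decomp (v : GcMod c k) : v = (∑ i : Fin c, v.1 i • X c k (i + 1)) + ∑ i : Fin c, v.2 i • Y c k (i + 1) := by
  refine Prod.ext (funext fun j => ?_) (funext fun j => ?_) <;>
    simp [X, Y, Prod.fst_sum, Prod.snd_sum, Finset.sum_apply, ← Fin.ext_iff]

theorem mem_of_basis (N : Submodule k (GcMod c k)) {v : GcMod c k}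
    (hx : ∀ n, 1 ≤ n → n ≤ c → coefX v n = 0 ∨ X c k n ∈ N)
    (hy : ∀ n, 1 ≤ n → n ≤ c → coefY v n = 0 ∨ Y c k n ∈ N) : v ∈ N := by
  rw [decomp v]
  refine add_mem (Submodule.sum_mem _ fun i _ => ?_) (Submodule.sum_mem _ fun i _ => ?_)
  · rcases hx (i + 1) (by omega) (by omega) with h | h
    · simp only [coefX, Nat.le_add_left, Nat.succ_le_of_lt i.2, and_self, dif_pos, Nat.add_sub_cancel] at h
      simp [h]
    · exact N.smul_mem _ h
  · rcases hy (i + 1) (by omega) (by omega) with h | h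
    · simp only [coefY, Nat.le_add_left, Nat.succ_le_of_lt i.2, and_self, dif_pos, Nat.add_sub_cancel] at h
      simp [h]
    · exact N.smul_mem _ h

theorem coefX_F (v : GcMod c k) (n : ℕ) (hn : 1 ≤ n) (hn' : n ≤ c) : coefX (F c k v) n = coefX v (2 * n) ^ 2 := by
  unfold F; rw [coefX, dif_pos ⟨hn, hn'⟩]
  simp only [show n - 1 + 1 = n by omega]
theorem coefY_F (v : GcMod c k) (n : ℕ) (hn : 1 ≤ n) (hn' : n ≤ c) :
    coefY (F c k v) n = coefX v (2 * (c - n) + 1) ^ 2 := by
  unfold F; rw [coefY, dif_pos ⟨hn, hn'⟩]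
  simp only [show n - 1 + 1 = n by omega]

theorem F_X_even (n : ℕ) (h1 : 1 ≤ n) (h2 : 2 * n ≤ c) : F c k (X c k (2 * n)) = X c k n := by
  refine ext' (fun m hm hm' => ?_) (fun m hm hm' => ?_)
  · rw [coefX_F _ _ hm hm', coefX_X, coefX_X]; split_ifs <;> first | (exfalso; omega) | simp
  · rw [coefY_F _ _ hm hm', coefX_X, coefY_X]; split_ifs <;> first | (exfalso; omega) | simp

theorem F_X_odd (r : ℕ) (h : 2 * r + 1 ≤ c) : F c k (X c k (2 * r + 1)) = Y c k (c - r) := by
  refine ext' (fun m hm hm' => ?_) (fun m hm hm' => ?_)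
  · rw [coefX_F _ _ hm hm', coefX_X, coefX_Y]; split_ifs <;> first | (exfalso; omega) | simp
  · rw [coefY_F _ _ hm hm', coefX_X, coefY_Y]; split_ifs <;> first | (exfalso; omega) | simp

section V

variable [ExpChar k 2] [PerfectRing k 2]

theorem coefX_V (v : GcMod c k) (n : ℕ) : coefX (V c k v) n = 0 := by simp [V, coefX]
theorem coefY_V (v : GcMod c k) (n : ℕ) (hn : 1 ≤ n) (hn' : n ≤ c) :
    coefY (V c k v) n = if n % 2 = 0 then (frobeniusEquiv k 2).symm (coefY v (n / 2))
      else (frobeniusEquiv k 2).symm (coefX v ((2 * c + 1 - n) / 2)) := by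
  unfold V; rw [coefY, dif_pos ⟨hn, hn'⟩]
  simp only [show n - 1 + 1 = n by omega, show 2 * c - (n - 1) = 2 * c + 1 - n by omega]

theorem V_Y (n : ℕ) (h1 : 1 ≤ n) (h2 : 2 * n ≤ c) : V c k (Y c k n) = Y c k (2 * n) := by
  refine ext' (fun m hm hm' => by rw [coefX_V, coefX_Y]) (fun m hm hm' => ?_)
  rw [coefY_V _ _ hm hm', coefY_Y, coefY_Y, coefX_Y]
  split_ifs <;> first | (exfalso; omega) | simp

theorem V_X (n : ℕ) (h1 : c < 2 * n) (h2 : n ≤ c) : V c k (X c k n) = Y c k (2 * c - 2 * n + 1) := by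
  refine ext' (fun m hm hm' => by rw [coefX_V, coefX_Y]) (fun m hm hm' => ?_)
  rw [coefY_V _ _ hm hm', coefY_X, coefX_X, coefY_Y]
  split_ifs <;> first | (exfalso; omega) | simp

theorem basis_mem (N : Submodule k (GcMod c k))
    (hX : ∀ n, 1 ≤ n → 2 * n ≤ c → X c k (2 * n) ∈ N → X c k n ∈ N)
    (hFY : ∀ r, 2 * r + 1 ≤ c → X c k (2 * r + 1) ∈ N → Y c k (c - r) ∈ N)
    (hVY : ∀ n, 1 ≤ n → 2 * n ≤ c → Y c k n ∈ N → Y c k (2 * n) ∈ N)
    (hVX : ∀ n, c < 2 * n → n ≤ c → X c k n ∈ N → Y c k (2 * c - 2 * n + 1) ∈ N)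
    (hgen : ∀ j : ℕ, c < 2 * j → j ≤ c → X c k j ∈ N) :
    (∀ n, 1 ≤ n → n ≤ c → X c k n ∈ N) ∧ (∀ n, 1 ≤ n → n ≤ c → Y c k n ∈ N) := by
  have hx : ∀ d n, c - n ≤ d → 1 ≤ n → n ≤ c → X c k n ∈ N := by
    intro d
    induction d with
    | zero => intro n hd h1 h2; exact hgen n (by omega) h2
    | succ d ih =>
      intro n hd h1 h2
      by_cases h : c < 2 * n
      · exact hgen n h h2
      · exact hX n h1 (by omega) (ih _ (by omega) (by omega) (by omega))
  refine ⟨fun n => hx _ n le_rfl, fun n => ?_⟩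
  induction n using Nat.strong_induction_on with
  | _ n ih =>
    intro h1 h2
    rcases Nat.even_or_odd n with ⟨r, rfl⟩ | ⟨r, rfl⟩
    · rw [← two_mul]; exact hVY r (by omega) (by omega) (ih r (by omega) (by omega) (by omega))
    · have := hVX (c - r) (by omega) (by omega) (hgen _ (by omega) (by omega))
      rwa [show 2 * c - 2 * (c - r) + 1 = 2 * r + 1 by omega] at this

end V

section Field

variable {K : Type u} [Field K]

theorem mem_Nfil {i : ℕ} {v : GcMod c K} :
    v ∈ Nfil c K i ↔ (∀ n, n ≤ c → i < n → coefY v n = 0) ∧ (∀ n, n ≤ c → n + i ≤ 2 * c → coefX v n = 0) := by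
  constructor
  · intro h
    induction h using Submodule.span_induction with
    | mem x hx =>
      rcases hx with ⟨n, hn, rfl⟩ | ⟨n, hn, rfl⟩
      · simp only [Set.mem_Icc] at hn
        refine ⟨fun m hm hi => ?_, fun m _ _ => coefX_Y⟩
        rw [coefY_Y, if_neg]; omega
      · simp only [Set.mem_Ioc] at hn
        refine ⟨fun m _ _ => coefY_X, fun m hm hi => ?_⟩
        rw [coefX_X, if_neg]; omega
    | zero => simp
    | add x y _ _ hx hy =>
      exact ⟨fun n h h' => by rw [coefY_add, hx.1 n h h', hy.1 n h h', add_zero],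
        fun n h h' => by rw [coefX_add, hx.2 n h h', hy.2 n h h', add_zero]⟩
    | smul a x _ hx =>
      exact ⟨fun n h h' => by rw [coefY_smul, hx.1 n h h', mul_zero],
        fun n h h' => by rw [coefX_smul, hx.2 n h h', mul_zero]⟩
  · rintro ⟨hy, hx⟩
    refine mem_of_basis _ (fun n h1 h2 => ?_) (fun n h1 h2 => ?_)
    · by_cases h : n + i ≤ 2 * c
      · exact Or.inl (hx n h2 h)
      · exact Or.inr (Submodule.subset_span (Or.inr ⟨n, Set.mem_Ioc.2 (by omega), rfl⟩))
    · by_cases h : i < n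
      · exact Or.inl (hy n h2 h)
      · exact Or.inr (Submodule.subset_span (Or.inl ⟨n, Set.mem_Icc.2 (by omega), rfl⟩))

theorem finrank_Nfil (i : ℕ) (hi : i ≤ 2 * c) : Module.finrank K (Nfil c K i) = i := by
  classical
  let b : Module.Basis (Fin c ⊕ Fin c) K (GcMod c K) := (Pi.basisFun K (Fin c)).prod (Pi.basisFun K (Fin c))
  have hbY : ∀ j : Fin c, b (Sum.inr j) = Y c K (j + 1) := fun j => by
    refine Prod.ext ?_ (funext fun l => ?_) <;> simp [b, Y, Pi.single_apply, Fin.ext_iff]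
  have hbX : ∀ j : Fin c, b (Sum.inl j) = X c K (j + 1) := fun j => by
    refine Prod.ext (funext fun l => ?_) ?_ <;> simp [b, X, Pi.single_apply, Fin.ext_iff]
  let g : Fin i → Fin c ⊕ Fin c := fun l =>
    if h : l.val < c then Sum.inr ⟨l.val, h⟩ else Sum.inl ⟨2 * c - 1 - l.val, by omega⟩
  have hg : Function.Injective g := by
    intro l l' h
    simp only [g] at h
    split_ifs at h <;> simp only [Sum.inl.injEq, Sum.inr.injEq, Fin.mk.injEq] at h <;> ext <;> omega
  have hspan : Nfil c K i = Submodule.span K (Set.range (b ∘ g)) := by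
    refine congrArg _ (Set.ext fun v => ⟨?_, ?_⟩)
    · rintro (⟨n, hn, rfl⟩ | ⟨n, hn, rfl⟩)
      · simp only [Set.mem_Icc] at hn
        refine ⟨⟨n - 1, by omega⟩, ?_⟩
        simp only [Function.comp_apply, g, show n - 1 < c by omega, dif_pos, hbY, show n - 1 + 1 = n by omega]
      · simp only [Set.mem_Ioc] at hn
        refine ⟨⟨2 * c - n, by omega⟩, ?_⟩
        simp only [Function.comp_apply, g, show ¬ (2 * c - n < c) by omega, dif_neg, not_false_iff, hbX,
          show 2 * c - 1 - (2 * c - n) + 1 = n by omega]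
    · rintro ⟨l, rfl⟩
      simp only [Function.comp_apply, g]
      split_ifs with h
      · exact Or.inl ⟨l.val + 1, Set.mem_Icc.2 (by omega), by rw [hbY]⟩
      · exact Or.inr ⟨2 * c - l.val, Set.mem_Ioc.2 (by omega),
          by rw [hbX]; simp only [show 2 * c - 1 - l.val + 1 = 2 * c - l.val by omega]⟩
  rw [hspan, finrank_span_eq_card (b.linearIndependent.comp g hg), Fintype.card_fin]

end Field

end Groth.DieuGc
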